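import Groth.Agent.Recoll.Etale
import Groth.Agent.KInj.Ops
import Groth.Prelude.Def_DCoh2
import Mathlib

/-!
`D(Z) → D(X)` for a closed immersion: fully faithful with image the complexes supported on `Z`.
-/

set_option autoImplicit false
set_option backward.isDefEq.respectTransparency false
set_option linter.style.haveILetI false

universe w w' v v' u u'

open CategoryTheory CategoryTheory.Limits DerivedCategory

namespace Groth.Agent.Recoll

section General

variable {A : Type u} [Category.{v} A] [Abelian A] [HasDerivedCategory.{w} A]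
  {C : Type u'} [Category.{v'} C] [Abelian C] [HasDerivedCategory.{w'} C]
  {L : A ⥤ C} {R : C ⥤ A} (adj : L ⊣ R) [L.Additive] [R.Additive]
  [PreservesFiniteLimits L] [PreservesFiniteColimits L] [PreservesFiniteLimits R] [PreservesFiniteColimits R]
  [IsIso adj.counit]

local notation "Lc" => L.mapHomologicalComplex (ComplexShape.up ℤ)
local notation "Rc" => R.mapHomologicalComplex (ComplexShape.up ℤ)

/-- the derived adjunction of exact functors -/
noncomputable def derivedAdj : L.mapDerivedCategory ⊣ R.mapDerivedCategory :=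
  letI : CatCommSq Lc (Q : CochainComplex A ℤ ⥤ _) Q L.mapDerivedCategory := ⟨L.mapDerivedCategoryFactors.symm⟩
  letI : CatCommSq Rc (Q : CochainComplex C ℤ ⥤ _) Q R.mapDerivedCategory := ⟨R.mapDerivedCategoryFactors.symm⟩
  (KInj.mapHomologicalComplexAdj adj (ComplexShape.up ℤ)).localization Q
    (HomologicalComplex.quasiIso A (ComplexShape.up ℤ)) Q (HomologicalComplex.quasiIso C (ComplexShape.up ℤ))
    L.mapDerivedCategory R.mapDerivedCategory

theorem isIso_derivedCounit : IsIso (derivedAdj adj).counit := by
  haveI : ∀ Y, IsIso ((derivedAdj adj).counit.app Y) := fun Y => by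
    refine (NatTrans.isIso_app_iff_of_iso _ ((Q : CochainComplex C ℤ ⥤ _).objObjPreimageIso Y)).1 ?_
    haveI : ∀ n, IsIso (((KInj.mapHomologicalComplexAdj adj (ComplexShape.up ℤ)).counit.app
        ((Q : CochainComplex C ℤ ⥤ _).objPreimage Y)).f n) := fun n => by
      change IsIso (adj.counit.app _)
      infer_instance
    haveI := HomologicalComplex.Hom.isIso_of_components ((KInj.mapHomologicalComplexAdj adj (ComplexShape.up ℤ)).counit.app
      ((Q : CochainComplex C ℤ ⥤ _).objPreimage Y))
    rw [derivedAdj, Adjunction.localization_counit_app]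
    infer_instance
  exact NatIso.isIso_of_isIso_app _

theorem isIso_derivedUnit_iff (P : CochainComplex A ℤ) :
    IsIso ((derivedAdj adj).unit.app (Q.obj P)) ↔
      QuasiIso ((KInj.mapHomologicalComplexAdj adj (ComplexShape.up ℤ)).unit.app P) := by
  rw [← isIso_Q_map_iff_quasiIso]
  rw [derivedAdj, Adjunction.localization_unit_app, isIso_comp_right_iff]

include adj in
theorem mapDerived_fullyFaithful : R.mapDerivedCategory.Full ∧ R.mapDerivedCategory.Faithful := by
  haveI := isIso_derivedCounit adj
  let h := (derivedAdj adj).fullyFaithfulROfIsIsoCounit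
  exact ⟨h.full, h.faithful⟩

variable {B : Type*} [Category B] [Abelian B] (jL : A ⥤ B) [jL.Additive]

include adj in
/-- essential image: complexes with homology killed by `jL` -/
theorem essImage_mapDerived (hzero : ∀ G : C, IsZero (jL.obj (R.obj G)))
    (hcons : ∀ {F G : A} (f : F ⟶ G), IsIso (L.map f) → IsIso (jL.map f) → IsIso f)
    (K : DerivedCategory A) :
    R.mapDerivedCategory.essImage K ↔ ∀ n : ℤ, IsZero (jL.obj ((homologyFunctor A n).obj K)) := by
  have key : ∀ (N : CochainComplex C ℤ) (n : ℤ),
      IsZero (jL.obj (HomologicalComplex.homology ((Rc).obj N) n)) := fun N n =>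
    (hzero (N.homology n)).of_iso (jL.mapIso ((N.sc n).mapHomologyIso R))
  constructor
  · rintro ⟨M, ⟨e⟩⟩ n
    let N := (Q : CochainComplex C ℤ ⥤ _).objPreimage M
    let e' : Q.obj ((Rc).obj N) ≅ K := (R.mapDerivedCategoryFactors.app N).symm ≪≫
      R.mapDerivedCategory.mapIso ((Q : CochainComplex C ℤ ⥤ _).objObjPreimageIso M) ≪≫ e
    exact (key N n).of_iso (jL.mapIso (((homologyFunctor A n).mapIso e').symm ≪≫
      (homologyFunctorFactors A n).app ((Rc).obj N)))
  · intro hK
    haveI := (derivedAdj adj).isRightAdjoint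
    haveI := (mapDerived_fullyFaithful adj).1
    haveI := (mapDerived_fullyFaithful adj).2
    obtain ⟨P, ⟨eP⟩⟩ : ∃ P, Nonempty ((Q : CochainComplex A ℤ ⥤ _).obj P ≅ K) :=
      ⟨_, ⟨(Q : CochainComplex A ℤ ⥤ _).objObjPreimageIso K⟩⟩
    suffices IsIso ((derivedAdj adj).unit.app (Q.obj P)) from
      ⟨_, ⟨(asIso ((derivedAdj adj).unit.app (Q.obj P))).symm ≪≫ eP⟩⟩
    rw [isIso_derivedUnit_iff]
    let a := KInj.mapHomologicalComplexAdj adj (ComplexShape.up ℤ)
    refine ⟨fun n => ?_⟩
    rw [quasiIsoAt_iff_isIso_homologyMap]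
    refine hcons _ ?_ ?_
    · haveI : IsIso ((Lc).map (a.unit.app P)) := by
        haveI : ∀ k, IsIso (((Lc).map (a.unit.app P)).f k) := fun k => isIso_map_unit adj (P.X k)
        exact HomologicalComplex.Hom.isIso_of_components _
      have nat : L.map (HomologicalComplex.homologyMap (a.unit.app P) n) =
          ((P.sc n).mapHomologyIso L).inv ≫ HomologicalComplex.homologyMap ((Lc).map (a.unit.app P)) n ≫
            ((((Rc).obj ((Lc).obj P)).sc n).mapHomologyIso L).hom := by
        rw [Iso.eq_inv_comp]
        exact (ShortComplex.mapHomologyIso_hom_naturality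
          ((HomologicalComplex.shortComplexFunctor A (ComplexShape.up ℤ) n).map (a.unit.app P)) L).symm
      rw [nat]
      infer_instance
    · refine IsZero.isIso ?_ (key _ n) _
      exact (hK n).of_iso (jL.mapIso (((homologyFunctorFactors A n).app P).symm ≪≫
        (homologyFunctor A n).mapIso eP))

end General

end Groth.Agent.Recoll
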