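import Groth.Agent.Recoll.Basic
import Groth.Agent.EtPushStalk.UnivInj
import Groth.Agent.EtPullExact.Basic
import Groth.Prelude.Def_W4c1etweilhu916Glue
import Mathlib

/-!
Recollement for a closed immersion and its open complement on small étale sites.
-/

set_option autoImplicit false
set_option backward.isDefEq.respectTransparency false
set_option linter.style.haveILetI false

universe u

open CategoryTheory CategoryTheory.Limits AlgebraicGeometry

namespace Groth.Agent.Recoll

open Groth.Agent.EtPushStalk Groth.Agent.EtStalk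

theorem isZero_of_stalks {X : Scheme.{u}} (F : EtCoh.Ab X)
    (h : ∀ (Ω : Type u) [Field Ω] [IsSepClosed Ω] (ξ : Spec (CommRingCat.of Ω) ⟶ X),
      IsZero ((EtCoh.stalk ξ).obj F)) : IsZero F := by
  haveI : IsIso (0 : F ⟶ F) := (isIso_iff _).mpr fun Ω _ _ ξ => (h Ω ξ).isIso (h Ω ξ) _
  exact (IsZero.iff_id_eq_zero F).mpr ((cancel_mono (0 : F ⟶ F)).1 (by simp))

variable {X Z U : Scheme.{u}} (i : Z ⟶ X) [IsClosedImmersion i] (j : U ⟶ X) [IsOpenImmersion j]

theorem isZero_pull_push (hZU : Disjoint (Set.range j.base) (Set.range i.base)) (G : EtCoh.Ab Z) :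
    IsZero ((EtCoh.pull j).obj ((EtCoh.push i).obj G)) := by
  refine isZero_of_stalks _ fun Ω _ _ ζ => ?_
  refine IsZero.of_iso (isZero_stalk_push i G (ζ ≫ j) ?_) ((stalkPullIso j ζ).app _).symm
  refine Disjoint.mono_left ?_ hZU
  rintro _ ⟨q, rfl⟩
  exact ⟨ζ q, rfl⟩

theorem isIso_of_pull (hZU : (Set.range i.base)ᶜ ⊆ Set.range j.base) {F G : EtCoh.Ab X} (f : F ⟶ G)
    (hi : IsIso ((EtCoh.pull i).map f)) (hj : IsIso ((EtCoh.pull j).map f)) : IsIso f := by
  refine (isIso_iff f).mpr fun Ω _ _ ξ => ?_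
  by_cases h : ξ (default : Spec (CommRingCat.of Ω)) ∈ Set.range i
  · obtain ⟨ζ, rfl⟩ := exists_lift_point i ξ h
    exact (NatIso.isIso_map_iff (stalkPullIso i ζ) f).mpr
      (inferInstanceAs (IsIso ((EtCoh.stalk ζ).map ((EtCoh.pull i).map f))))
  · have hr : Set.range ξ ⊆ Set.range j := by
      rintro _ ⟨q, rfl⟩
      rw [Subsingleton.elim (α := Spec (CommRingCat.of Ω)) q (default : Spec (CommRingCat.of Ω))]
      exact hZU h
    obtain ⟨ζ, rfl⟩ : ∃ ζ, ζ ≫ j = ξ := ⟨IsOpenImmersion.lift j ξ hr, IsOpenImmersion.lift_fac _ _ _⟩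
    exact (NatIso.isIso_map_iff (stalkPullIso j ζ) f).mpr
      (inferInstanceAs (IsIso ((EtCoh.stalk ζ).map ((EtCoh.pull j).map f))))

theorem isEquivalence_recollTriple (hZU : Set.range j.base = (Set.range i.base)ᶜ) :
    (EtCore.recollTriple i j).IsEquivalence := by
  haveI := Groth.Agent.EtPullExact.pull_preservesFiniteLimits i
  haveI := Groth.Agent.EtPullExact.pull_preservesFiniteLimits j
  haveI : ∀ G, IsIso ((EtCoh.pullPushAdj i).counit.app G) := isIso_counit i (liftProp_of_closedImmersion i)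
  haveI : IsIso (EtCoh.pullPushAdj i).counit := NatIso.isIso_of_isIso_app _
  haveI : ∀ G, IsIso ((EtCoh.pullPushAdj j).counit.app G) := isIso_counit j (liftProp_of_openImmersion j)
  haveI : IsIso (EtCoh.pullPushAdj j).counit := NatIso.isIso_of_isIso_app _
  haveI : (EtCoh.pull i).Additive := (EtCoh.pullPushAdj i).left_adjoint_additive
  haveI : (EtCoh.pull j).Additive := (EtCoh.pullPushAdj j).left_adjoint_additive
  exact isEquivalence_triple (iL := EtCoh.pull i) (iR := EtCoh.push i) (jL := EtCoh.pull j) (jR := EtCoh.push j)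
    (EtCoh.pullPushAdj i) (EtCoh.pullPushAdj j)
    (isZero_pull_push i j (hZU ▸ disjoint_compl_left)) (isIso_of_pull i j hZU.ge)

end Groth.Agent.Recoll
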