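import Mathlib

/-!
Recollement of abelian categories: `F ↦ (i* F, j* F, i*(η))` is an equivalence with the comma category.
-/

set_option autoImplicit false
set_option backward.isDefEq.respectTransparency false
set_option linter.style.haveILetI false

universe v v₁ v₂ u u₁ u₂

open CategoryTheory CategoryTheory.Limits

namespace Groth.Agent.Recoll

/-- a left adjoint with invertible counit inverts the unit -/
theorem isIso_map_unit {A : Type u} [Category.{v} A] {D : Type u₁} [Category.{v₁} D] {L : A ⥤ D} {R : D ⥤ A}
    (adj : L ⊣ R) [IsIso adj.counit] (X : A) : IsIso (L.map (adj.unit.app X)) := by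
  haveI : IsIso (L.map (adj.unit.app X) ≫ adj.counit.app (L.obj X)) := by
    rw [adj.left_triangle_components X]; exact IsIso.id _
  exact IsIso.of_isIso_comp_right _ (adj.counit.app (L.obj X))

/-- the kernel inclusion of a zero map is an isomorphism -/
theorem isIso_kernel_ι_of_eq_zero {A : Type u} [Category.{v} A] [HasZeroMorphisms A] {X Y : A} {f : X ⟶ Y}
    [HasKernel f] (h : f = 0) : IsIso (kernel.ι f) :=
  ⟨⟨kernel.lift f (𝟙 X) (by rw [h, comp_zero]), by ext; simp, kernel.lift_ι _ _ _⟩⟩

variable {A : Type u} [Category.{v} A] [Abelian A] {B : Type u₁} [Category.{v₁} B] [Abelian B]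
  {C : Type u₂} [Category.{v₂} C] [Abelian C]
  {iL : A ⥤ C} {iR : C ⥤ A} {jL : A ⥤ B} {jR : B ⥤ A} (ai : iL ⊣ iR) (aj : jL ⊣ jR)

/-- recollement functor -/
noncomputable def triple : A ⥤ Comma (𝟭 C) (jR ⋙ iL) where
  obj F := { left := iL.obj F, right := jL.obj F, hom := iL.map (aj.unit.app F) }
  map {F G} φ :=
    { left := iL.map φ
      right := jL.map φ
      w := by
        dsimp
        rw [← Functor.map_comp, ← Functor.map_comp]
        congr 1
        exact aj.unit.naturality φ }
  map_id F := by ext <;> simp
  map_comp φ ψ := by ext <;> simp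

variable [PreservesFiniteLimits iL] [PreservesFiniteLimits jL] [IsIso ai.counit] [IsIso aj.counit]
  (hzero : ∀ G : C, IsZero (jL.obj (iR.obj G)))
  (hcons : ∀ {F G : A} (f : F ⟶ G), IsIso (iL.map f) → IsIso (jL.map f) → IsIso f)

section Obj

variable (W : Comma (𝟭 C) (jR ⋙ iL))

/-- the glued object -/
noncomputable abbrev glue : A := pullback (iR.map W.hom) (ai.unit.app (jR.obj W.right))

include ai in
theorem isIso_iL_fst : IsIso (iL.map (pullback.fst (iR.map W.hom) (ai.unit.app (jR.obj W.right)))) := by
  have sq := (IsPullback.of_hasPullback (iR.map W.hom) (ai.unit.app (jR.obj W.right))).map iL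
  haveI : IsIso (iL.map (ai.unit.app (jR.obj W.right))) :=
    isIso_map_unit ai _
  exact sq.isIso_fst_of_isIso

include hzero in
theorem isIso_jL_snd : IsIso (jL.map (pullback.snd (iR.map W.hom) (ai.unit.app (jR.obj W.right)))) := by
  have sq := (IsPullback.of_hasPullback (iR.map W.hom) (ai.unit.app (jR.obj W.right))).map jL
  haveI : IsIso (jL.map (iR.map W.hom)) := (hzero _).isIso (hzero _) _
  exact sq.isIso_snd_of_isIso

include ai hzero in
theorem exists_iso : ∃ F : A, Nonempty ((triple (iL := iL) aj).obj F ≅ W) := by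
  let P := glue ai W
  let l : iL.obj P ⟶ W.left := iL.map (pullback.fst _ _) ≫ ai.counit.app W.left
  let r : jL.obj P ⟶ W.right := jL.map (pullback.snd _ _) ≫ aj.counit.app W.right
  haveI := isIso_iL_fst ai W
  haveI := isIso_jL_snd ai hzero W
  haveI : IsIso l := inferInstance
  haveI : IsIso r := inferInstance
  refine ⟨P, ⟨Comma.isoMk (asIso l) (asIso r) ?_⟩⟩
  have h1 : aj.unit.app P ≫ jR.map r = pullback.snd (iR.map W.hom) (ai.unit.app (jR.obj W.right)) := by
    simp [r]
  have h2 : iL.map (pullback.fst (iR.map W.hom) (ai.unit.app (jR.obj W.right))) ≫ iL.map (iR.map W.hom) ≫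
        ai.counit.app _ = iL.map (pullback.snd _ _) := by
    rw [← Category.assoc, ← Functor.map_comp, pullback.condition, Functor.map_comp, Category.assoc]
    erw [ai.left_triangle_components]
    exact Category.comp_id _
  show l ≫ W.hom = iL.map (aj.unit.app P) ≫ iL.map (jR.map r)
  rw [← Functor.map_comp, h1, ← h2]
  simp [l]

end Obj

include ai hzero hcons in
theorem isIso_unit_lift (G : A) :
    IsIso (pullback.lift (f := iR.map (iL.map (aj.unit.app G)))
      (g := ai.unit.app (jR.obj (jL.obj G))) (ai.unit.app G) (aj.unit.app G)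
      (ai.unit.naturality (aj.unit.app G)).symm) := by
  let W : Comma (𝟭 C) (jR ⋙ iL) := (triple aj).obj G
  refine hcons _ ?_ ?_
  · haveI : IsIso (iL.map (pullback.fst (iR.map (iL.map (aj.unit.app G))) (ai.unit.app (jR.obj (jL.obj G))))) :=
      isIso_iL_fst ai W
    haveI : IsIso (iL.map (ai.unit.app G)) := isIso_map_unit ai G
    exact IsIso.of_isIso_fac_right (h := iL.map (ai.unit.app G)) (by rw [← Functor.map_comp, pullback.lift_fst])
  · haveI : IsIso (jL.map (pullback.snd (iR.map (iL.map (aj.unit.app G))) (ai.unit.app (jR.obj (jL.obj G))))) :=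
      isIso_jL_snd ai hzero W
    haveI : IsIso (jL.map (aj.unit.app G)) := isIso_map_unit aj G
    exact IsIso.of_isIso_fac_right (h := jL.map (aj.unit.app G)) (by rw [← Functor.map_comp, pullback.lift_snd])

include ai hzero hcons in
theorem isEquivalence_triple [iL.Additive] [jL.Additive] : (triple (iL := iL) aj).IsEquivalence := by
  haveI : (triple (iL := iL) aj).Faithful := ⟨fun {F G} f g e => by
    rw [← sub_eq_zero]
    have h1 : iL.map (f - g) = 0 := by
      rw [Functor.map_sub, sub_eq_zero]
      exact congrArg CommaMorphism.left e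
    have h2 : jL.map (f - g) = 0 := by
      rw [Functor.map_sub, sub_eq_zero]
      exact congrArg CommaMorphism.right e
    haveI : IsIso (kernel.ι (f - g)) := by
      refine hcons _ ?_ ?_
      · haveI : IsIso (kernel.ι (iL.map (f - g))) := isIso_kernel_ι_of_eq_zero h1
        rw [← kernelComparison_comp_ι (f - g) iL]
        infer_instance
      · haveI : IsIso (kernel.ι (jL.map (f - g))) := isIso_kernel_ι_of_eq_zero h2
        rw [← kernelComparison_comp_ι (f - g) jL]
        infer_instance
    exact (cancel_epi (kernel.ι (f - g))).1 (by rw [kernel.condition, comp_zero])⟩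
  haveI : (triple (iL := iL) aj).Full := ⟨fun {F G} k => by
    have hw : k.left ≫ iL.map (aj.unit.app G) = iL.map (aj.unit.app F) ≫ iL.map (jR.map k.right) := k.w
    let c := pullback.lift (f := iR.map (iL.map (aj.unit.app G))) (g := ai.unit.app (jR.obj (jL.obj G)))
      (ai.unit.app G) (aj.unit.app G) (ai.unit.naturality (aj.unit.app G)).symm
    haveI : IsIso c := isIso_unit_lift ai aj hzero hcons G
    let l : F ⟶ pullback (iR.map (iL.map (aj.unit.app G))) (ai.unit.app (jR.obj (jL.obj G))) :=
      pullback.lift (ai.unit.app F ≫ iR.map k.left) (aj.unit.app F ≫ jR.map k.right) (by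
        rw [Category.assoc, ← Functor.map_comp, hw, Functor.map_comp, ← Category.assoc]
        have h1 := ai.unit.naturality (aj.unit.app F)
        have h2 := ai.unit.naturality (jR.map k.right)
        dsimp at h1 h2
        rw [← h1, Category.assoc]; erw [← h2]; exact (Category.assoc _ _ _).symm)
    have hfac : (l ≫ inv c) ≫ c = l := by simp
    have e1 : (l ≫ inv c) ≫ ai.unit.app G = ai.unit.app F ≫ iR.map k.left := by
      calc _ = (l ≫ inv c) ≫ c ≫ pullback.fst _ _ := by rw [pullback.lift_fst]
        _ = l ≫ pullback.fst _ _ := by rw [← Category.assoc, hfac]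
        _ = _ := pullback.lift_fst _ _ _
    have e2 : (l ≫ inv c) ≫ aj.unit.app G = aj.unit.app F ≫ jR.map k.right := by
      calc _ = (l ≫ inv c) ≫ c ≫ pullback.snd _ _ := by rw [pullback.lift_snd]
        _ = l ≫ pullback.snd _ _ := by rw [← Category.assoc, hfac]
        _ = _ := pullback.lift_snd _ _ _
    refine ⟨l ≫ inv c, CommaMorphism.ext ?_ ?_⟩
    · refine (ai.homEquiv _ _).injective ?_
      rw [Adjunction.homEquiv_unit, Adjunction.homEquiv_unit]
      refine Eq.trans ?_ e1
      exact (ai.unit.naturality (l ≫ inv c)).symm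
    · refine (aj.homEquiv _ _).injective ?_
      rw [Adjunction.homEquiv_unit, Adjunction.homEquiv_unit]
      refine Eq.trans ?_ e2
      exact (aj.unit.naturality (l ≫ inv c)).symm⟩
  haveI : (triple (iL := iL) aj).EssSurj := ⟨fun W => exists_iso ai aj hzero W⟩
  exact {}

end Groth.Agent.Recoll
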